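import Mathlib

/-!
# Characteristically simple finite groups are direct powers of a simple group
-/

set_option autoImplicit false
set_option linter.style.haveILetI false

namespace Cfsg.Agent.Lib.CharSimple.Forward

variable {G : Type*} [Group G]

/-- Minimal normal subgroups. -/
def IsMinNormal (N : Subgroup G) : Prop :=
  N.Normal ∧ N ≠ ⊥ ∧ ∀ M : Subgroup G, M.Normal → M ≤ N → M = ⊥ ∨ M = N

theorem exists_isMinNormal [Finite G] [Nontrivial G] : ∃ N : Subgroup G, IsMinNormal N := by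
  have hfin : ({N : Subgroup G | N.Normal ∧ N ≠ ⊥}).Finite := Set.toFinite _
  have hne : ({N : Subgroup G | N.Normal ∧ N ≠ ⊥}).Nonempty :=
    ⟨⊤, inferInstance, top_ne_bot⟩
  obtain ⟨N, hN⟩ := hfin.exists_minimal hne
  refine ⟨N, hN.1.1, hN.1.2, fun M hM hMN => ?_⟩
  by_cases hb : M = ⊥
  · exact Or.inl hb
  · exact Or.inr (le_antisymm hMN (hN.2 ⟨hM, hb⟩ hMN))

theorem IsMinNormal.map {N : Subgroup G} (hN : IsMinNormal N) (φ : G ≃* G) :
    IsMinNormal (N.map φ.toMonoidHom) := by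
  obtain ⟨h1, h2, h3⟩ := hN
  refine ⟨h1.map _ φ.surjective, ?_, ?_⟩
  · intro h
    apply h2
    exact (Subgroup.map_eq_bot_iff_of_injective _ φ.injective).mp h
  · intro M hM hMN
    have hM' : (M.comap φ.toMonoidHom).Normal := hM.comap _
    have hle : M.comap φ.toMonoidHom ≤ N := by
      intro x hx
      obtain ⟨y, hy, hyx⟩ := hMN hx
      have : y = x := φ.injective hyx
      rwa [← this]
    rcases h3 _ hM' hle with h | h
    · left
      rw [eq_bot_iff]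
      intro x hx
      have : φ.symm x ∈ M.comap φ.toMonoidHom := by
        simpa using hx
      rw [h, Subgroup.mem_bot] at this
      simpa using this
    · right
      rw [← h, Subgroup.map_comap_eq_self_of_surjective φ.surjective]

/-- Independence of a maximal family. -/
theorem sSupIndep_insert {𝒮 : Set (Subgroup G)} (hnorm : ∀ A ∈ 𝒮, A.Normal) (h𝒮 : sSupIndep 𝒮)
    {A : Subgroup G} (hA : A.Normal) (hdisj : A ⊓ sSup 𝒮 = ⊥) : sSupIndep (insert A 𝒮) := by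
  classical
  have hdisj' : Disjoint A (sSup 𝒮) := disjoint_iff.mpr hdisj
  intro B hB
  rw [disjoint_iff_inf_le]
  intro x ⟨hxB, hx⟩
  rcases hB with rfl | hB
  · -- B = A
    have hle : sSup (insert B 𝒮 \ {B}) ≤ sSup 𝒮 := sSup_le_sSup (by
      rintro C ⟨hC | hC, hne⟩
      · exact absurd hC hne
      · exact hC)
    have hmem : x ∈ B ⊓ sSup 𝒮 := ⟨hxB, hle hx⟩
    rw [hdisj] at hmem
    exact hmem
  · -- B ∈ 𝒮
    by_cases hAB : A = B
    · subst hAB
      have hle : sSup (insert A 𝒮 \ {A}) ≤ sSup 𝒮 := sSup_le_sSup (by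
        rintro C ⟨hC | hC, hne⟩
        · exact absurd hC hne
        · exact hC)
      have hmem : x ∈ A ⊓ sSup 𝒮 := ⟨hxB, hle hx⟩
      rw [hdisj] at hmem
      exact hmem
    set Q := sSup (𝒮 \ {B}) with hQ
    have hQn : Q.Normal := Subgroup.sSup_normal _ fun C hC => hnorm C hC.1
    have hle : sSup (insert A 𝒮 \ {B}) ≤ A ⊔ Q := by
      apply sSup_le
      rintro C ⟨hC | hC, hne⟩
      · rw [hC]
        exact le_sup_left
      · exact (le_sSup (show C ∈ 𝒮 \ {B} from ⟨hC, hne⟩)).trans le_sup_right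
    have hx' := hle hx
    rw [Subgroup.mem_sup_of_normal_right] at hx'
    obtain ⟨a, ha, q, hq, rfl⟩ := hx'
    -- a ∈ sSup 𝒮
    have hBP : B ≤ sSup 𝒮 := le_sSup hB
    have hQP : Q ≤ sSup 𝒮 := sSup_le_sSup Set.sdiff_subset
    have ha' : a ∈ A ⊓ sSup 𝒮 := by
      refine ⟨ha, ?_⟩
      have h1 : a = (a * q) * q⁻¹ := by group
      rw [h1]
      exact (sSup 𝒮).mul_mem (hBP hxB) ((sSup 𝒮).inv_mem (hQP hq))
    rw [hdisj, Subgroup.mem_bot] at ha'
    subst ha'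
    rw [one_mul] at hxB ⊢
    exact (disjoint_iff_inf_le.mp (h𝒮 hB)) ⟨hxB, hq⟩

/-- A normal subgroup which is a maximal independent family of translates of a minimal normal
subgroup. -/
theorem exists_family [Finite G] [Nontrivial G]
    (hG : ∀ H : Subgroup G, H.Characteristic → H = ⊥ ∨ H = ⊤) {N : Subgroup G}
    (hN : IsMinNormal N) :
    ∃ 𝒮 : Set (Subgroup G), sSupIndep 𝒮 ∧ (∀ A ∈ 𝒮, ∃ φ : G ≃* G, A = N.map φ.toMonoidHom) ∧
      sSup 𝒮 = ⊤ := by
  classical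
  let 𝒜 : Set (Subgroup G) := {A | ∃ φ : G ≃* G, A = N.map φ.toMonoidHom}
  have h𝒜 : ∀ A ∈ 𝒜, IsMinNormal A := by
    rintro A ⟨φ, rfl⟩
    exact hN.map φ
  -- the generated subgroup is everything
  have htop : sSup 𝒜 = ⊤ := by
    have hchar : (sSup 𝒜).Characteristic := by
      rw [Subgroup.characteristic_iff_le_map]
      intro φ
      apply sSup_le
      rintro A ⟨ψ, rfl⟩
      have h1 : N.map (φ.symm.toMonoidHom.comp ψ.toMonoidHom) ∈ 𝒜 :=
        ⟨ψ.trans φ.symm, rfl⟩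
      have h2 := le_sSup h1
      intro x hx
      refine ⟨φ.symm x, h2 ?_, by simp⟩
      obtain ⟨y, hy, rfl⟩ := hx
      exact ⟨y, hy, rfl⟩
    rcases hG _ hchar with h | h
    · exfalso
      have h1 : N ≤ sSup 𝒜 := le_sSup ⟨MulEquiv.refl G, by
        ext x
        simp⟩
      rw [h] at h1
      exact hN.2.1 (le_bot_iff.mp h1)
    · exact h
  -- maximal family
  let Fam : Set (Set (Subgroup G)) := {𝒮 | 𝒮 ⊆ 𝒜 ∧ sSupIndep 𝒮}
  have hfin : Fam.Finite := Set.toFinite _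
  have hne : Fam.Nonempty := ⟨∅, Set.empty_subset _, sSupIndep_empty⟩
  obtain ⟨𝒮, h𝒮⟩ := hfin.exists_maximal hne
  refine ⟨𝒮, h𝒮.1.2, fun A hA => h𝒮.1.1 hA, ?_⟩
  rw [eq_top_iff, ← htop]
  apply sSup_le
  intro A hA
  by_contra hle
  have hmn := h𝒜 A hA
  have hnorm : ∀ B ∈ 𝒮, B.Normal := fun B hB => (h𝒜 B (h𝒮.1.1 hB)).1
  have hPn : (sSup 𝒮).Normal := Subgroup.sSup_normal _ hnorm
  have hinf : (A ⊓ sSup 𝒮).Normal := by
    haveI := hmn.1
    infer_instance
  have hdisj : A ⊓ sSup 𝒮 = ⊥ := by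
    rcases hmn.2.2 _ hinf inf_le_left with h | h
    · exact h
    · exact absurd (inf_eq_left.mp h) hle
  have hind := sSupIndep_insert hnorm h𝒮.1.2 hmn.1 hdisj
  have hmem : insert A 𝒮 ∈ Fam := ⟨Set.insert_subset hA h𝒮.1.1, hind⟩
  have hsub : insert A 𝒮 ≤ 𝒮 := h𝒮.2 hmem (Set.subset_insert _ _)
  have hA𝒮 : A ∈ 𝒮 := hsub (Set.mem_insert _ _)
  exact hle (le_sSup hA𝒮)

/-- Simplicity of a factor. -/
theorem isSimpleGroup_of_family {𝒮 : Set (Subgroup G)} (hind : sSupIndep 𝒮)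
    (hmin : ∀ A ∈ 𝒮, IsMinNormal A) (htop : sSup 𝒮 = ⊤) {A₀ : Subgroup G} (hA₀ : A₀ ∈ 𝒮) :
    IsSimpleGroup A₀ := by
  classical
  obtain ⟨hn, hb, hm⟩ := hmin A₀ hA₀
  haveI : Nontrivial A₀ := (Subgroup.nontrivial_iff_ne_bot A₀).mpr hb
  refine ⟨fun M hM => ?_⟩
  set C := sSup (𝒮 \ {A₀}) with hC
  have hCn : C.Normal := Subgroup.sSup_normal _ fun B hB => (hmin B hB.1).1
  -- C centralizes A₀
  have hcen : C ≤ Subgroup.centralizer (A₀ : Set G) := by
    apply sSup_le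
    rintro B ⟨hB, hne⟩
    intro y hy x hx
    have hdisj : Disjoint A₀ B := (hind hA₀).mono_right (le_sSup (show B ∈ 𝒮 \ {A₀} from ⟨hB, hne⟩))
    exact (Subgroup.commute_of_normal_of_disjoint A₀ B hn (hmin B hB).1 hdisj x y hx hy)
  have hsup : A₀ ⊔ C = ⊤ := by
    rw [eq_top_iff, ← htop]
    apply sSup_le
    intro B hB
    by_cases hBA : B = A₀
    · rw [hBA]
      exact le_sup_left
    · exact (le_sSup (show B ∈ 𝒮 \ {A₀} from ⟨hB, hBA⟩)).trans le_sup_right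
  let M' : Subgroup G := M.map A₀.subtype
  have hM'n : M'.Normal := by
    refine ⟨fun m hm' g => ?_⟩
    obtain ⟨m₀, hm₀, rfl⟩ := hm'
    have hg : g ∈ A₀ ⊔ C := by
      rw [hsup]
      trivial
    rw [Subgroup.mem_sup_of_normal_right] at hg
    obtain ⟨a, ha, c, hc, rfl⟩ := hg
    have hcm : c * (m₀ : G) = m₀ * c := (hcen hc) m₀ m₀.2 |>.symm
    have e : a * c * (m₀ : G) * (a * c)⁻¹ = (((⟨a, ha⟩ : A₀) * m₀ * (⟨a, ha⟩ : A₀)⁻¹ : A₀) : G) := by
      push_cast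
      rw [mul_assoc a c, hcm]
      group
    refine ⟨_, hM.conj_mem m₀ hm₀ ⟨a, ha⟩, ?_⟩
    exact e.symm
  have hle : M' ≤ A₀ := by
    rintro _ ⟨m, _, rfl⟩
    exact m.2
  rcases hm M' hM'n hle with h | h
  · left
    exact (Subgroup.map_eq_bot_iff_of_injective _ A₀.subtype_injective).mp h
  · right
    rw [eq_top_iff]
    intro x _
    have : (x : G) ∈ M' := by
      rw [h]
      exact x.2
    obtain ⟨y, hy, hyx⟩ := this
    have : y = x := Subtype.ext hyx
    rwa [← this]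

/-- The forward direction. -/
theorem forward [Finite G] [Nontrivial G]
    (hG : ∀ H : Subgroup G, H.Characteristic → H = ⊥ ∨ H = ⊤) :
    ∃ (S : Type) (_ : Group S) (_ : IsSimpleGroup S) (n : ℕ), 1 ≤ n ∧
      Nonempty (G ≃* (Fin n → S)) := by
  classical
  obtain ⟨N, hN⟩ := exists_isMinNormal (G := G)
  obtain ⟨𝒮, hind, hform, htop⟩ := exists_family hG hN
  have hmin : ∀ A ∈ 𝒮, IsMinNormal A := by
    intro A hA
    obtain ⟨φ, rfl⟩ := hform A hA
    exact hN.map φ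
  have hne : 𝒮.Nonempty := by
    by_contra h
    rw [Set.not_nonempty_iff_eq_empty] at h
    rw [h, sSup_empty] at htop
    exact bot_ne_top htop
  obtain ⟨A₀, hA₀⟩ := hne
  have hsimple := isSimpleGroup_of_family hind hmin htop hA₀
  have hfin : Finite 𝒮 := Set.toFinite _
  letI : Fintype 𝒮 := Fintype.ofFinite _
  -- iso of each factor with N
  choose φ hφ using fun A : 𝒮 => hform A.1 A.2
  have eA : ∀ A : 𝒮, (A.1 : Subgroup G) ≃* N := fun A =>
    (MulEquiv.subgroupCongr (hφ A)).trans ((φ A).subgroupMap N).symm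
  -- simple
  have hNsimple : IsSimpleGroup N := by
    obtain ⟨φ₀, hφ₀⟩ := hform A₀ hA₀
    have e : A₀ ≃* N := (MulEquiv.subgroupCongr hφ₀).trans (φ₀.subgroupMap N).symm
    exact e.symm.isSimpleGroup
  -- the product map
  have hcomm : Pairwise fun i j : 𝒮 => ∀ x y : G, x ∈ (i.1 : Subgroup G) → y ∈ (j.1 : Subgroup G) →
      Commute x y := by
    intro i j hij x y hx hy
    have hdisj : Disjoint (i.1 : Subgroup G) j.1 :=
      (hind i.2).mono_right (le_sSup (show j.1 ∈ 𝒮 \ {i.1} from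
        ⟨j.2, fun h => hij (Subtype.ext h.symm)⟩))
    exact Subgroup.commute_of_normal_of_disjoint _ _ (hmin _ i.2).1 (hmin _ j.2).1 hdisj x y hx hy
  have hindi : iSupIndep (fun A : 𝒮 => (A.1 : Subgroup G)) := (sSupIndep_iff _).mp hind
  have hinj := Subgroup.injective_noncommPiCoprod_of_iSupIndep (hcomm := hcomm) hindi
  have hsurj : Function.Surjective (Subgroup.noncommPiCoprod hcomm) := by
    rw [← MonoidHom.range_eq_top, Subgroup.noncommPiCoprod_range, ← sSup_eq_iSup', htop]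
  let E₁ : (∀ A : 𝒮, (A.1 : Subgroup G)) ≃* G :=
    MulEquiv.ofBijective _ ⟨hinj, hsurj⟩
  let E₂ : (∀ A : 𝒮, (A.1 : Subgroup G)) ≃* (𝒮 → N) := MulEquiv.piCongrRight eA
  -- S in Type
  haveI hsm : Small.{0} N := Countable.toSmall _
  let e₀ : N ≃ Shrink.{0} N := @equivShrink N hsm
  have he₀ : ∀ a b : N, e₀ (a * b) = e₀ a * e₀ b := by
    intro a b
    apply e₀.symm.injective
    rw [Equiv.symm_apply_apply, Equiv.mul_def]
    simp [e₀]
  let eS : N ≃* Shrink.{0} N := { e₀ with map_mul' := he₀ }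
  have hS : IsSimpleGroup (Shrink.{0} N) := eS.symm.isSimpleGroup
  let en : 𝒮 ≃ Fin (Fintype.card 𝒮) := Fintype.equivFin _
  refine ⟨Shrink.{0} N, inferInstance, hS, Fintype.card 𝒮, ?_, ⟨E₁.symm.trans (E₂.trans (MulEquiv.arrowCongr en eS))⟩⟩
  exact Fintype.card_pos_iff.mpr ⟨⟨A₀, hA₀⟩⟩

end Cfsg.Agent.Lib.CharSimple.Forward
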